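import Groth.Prelude.Def_GSzMilK
import Mathlib.LinearAlgebra.Multilinear.Curry
import Mathlib.GroupTheory.Perm.Fin
import Mathlib.Logic.Equiv.Fin.Rotate

/-!
# Milnor K-theory: symbols, anti-commutativity
-/

universe u v w

namespace Groth.Agent.MilnorK

open MilK Function

variable {F : Type u} [Field F]

/-- The symbol as a multilinear map. -/
noncomputable def symbolM (F : Type u) [Field F] (n : ℕ) :
    MultilinearMap ℤ (fun _ : Fin n => Additive Fˣ) (K F n) :=
  (mk F n).toIntLinearMap.compMultilinearMap (PiTensorProduct.tprod ℤ)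

theorem symbolM_apply {n : ℕ} (x : Fin n → Additive Fˣ) :
    symbolM F n x = symbol fun i => (x i).toMul := rfl

theorem symbolM_ofMul {n : ℕ} (x : Fin n → Fˣ) :
    symbolM F n (fun i => Additive.ofMul (x i)) = symbol x := rfl

theorem ofMul_update {n : ℕ} (x : Fin n → Fˣ) (i : Fin n) (a : Fˣ) :
    (fun j => Additive.ofMul (update x i a j)) = update (fun j => Additive.ofMul (x j)) i (Additive.ofMul a) :=
  funext fun j => apply_update (fun _ => Additive.ofMul) x i a j

theorem symbol_update_mul {n : ℕ} (x : Fin n → Fˣ) (i : Fin n) (a b : Fˣ) :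
    symbol (update x i (a * b)) = symbol (update x i a) + symbol (update x i b) := by
  simp only [← symbolM_ofMul, ofMul_update, ofMul_mul, MultilinearMap.map_update_add]

theorem symbol_update_zpow {n : ℕ} (x : Fin n → Fˣ) (i : Fin n) (a : Fˣ) (e : ℤ) :
    symbol (update x i (a ^ e)) = e • symbol (update x i a) := by
  simp only [← symbolM_ofMul, ofMul_update, ofMul_zpow, MultilinearMap.map_update_smul]

theorem symbol_update_one {n : ℕ} (x : Fin n → Fˣ) (i : Fin n) :
    symbol (update x i (1 : Fˣ)) = 0 := by
  simpa using symbol_update_mul x i 1 1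

theorem symbol_update_inv {n : ℕ} (x : Fin n → Fˣ) (i : Fin n) (a : Fˣ) :
    symbol (update x i a⁻¹) = -symbol (update x i a) := by
  simpa using symbol_update_zpow x i a (-1)

theorem symbol_eq_zero_of_one {n : ℕ} (x : Fin n → Fˣ) (i : Fin n) (h : x i = 1) : symbol x = 0 := by
  rw [← update_eq_self i x, h]; exact symbol_update_one x i

/-- Two additive maps agree when they agree on symbols. -/
theorem hom_ext {n : ℕ} {M : Type w} [AddCommGroup M] {f g : K F n →+ M}
    (h : ∀ x : Fin n → Fˣ, f (symbol x) = g (symbol x)) : f = g := by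
  have key : (f.comp (mk F n)).toIntLinearMap = (g.comp (mk F n)).toIntLinearMap :=
    PiTensorProduct.ext (MultilinearMap.ext fun x => h fun i => (x i).toMul)
  refine AddMonoidHom.ext fun z => ?_
  obtain ⟨t, rfl⟩ := mk_surjective F n z
  exact LinearMap.congr_fun key t

/-- Symbols generate. -/
theorem closure_symbol (n : ℕ) :
    AddSubgroup.closure (Set.range (symbol (F := F) (n := n))) = ⊤ := by
  refine eq_top_iff.2 fun z hz => ?_
  clear hz
  obtain ⟨t, rfl⟩ := mk_surjective F n z
  induction t using PiTensorProduct.induction_on with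
  | smul_tprod r x =>
    rw [map_zsmul]
    exact AddSubgroup.zsmul_mem _
      (AddSubgroup.subset_closure (Set.mem_range.2 ⟨_, (mk_tprod x).symm⟩)) r
  | add x y hx hy => rw [map_add]; exact add_mem hx hy

theorem symbol_induction {n : ℕ} {P : K F n → Prop} (z : K F n) (h0 : P 0)
    (hs : ∀ x, P (symbol x)) (hadd : ∀ a b, P a → P b → P (a + b))
    (hneg : ∀ a, P a → P (-a)) : P z := by
  have hz : z ∈ AddSubgroup.closure (Set.range (symbol (F := F) (n := n))) := by
    rw [closure_symbol]; exact AddSubgroup.mem_top z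
  induction hz using AddSubgroup.closure_induction with
  | mem a ha => obtain ⟨x, rfl⟩ := ha; exact hs x
  | zero => exact h0
  | add a b _ _ ha hb => exact hadd a b ha hb
  | neg a _ ha => exact hneg a ha

/-- The symbol of a tuple with two entries adding to one vanishes. -/
theorem symbol_eq_zero_of_add {n : ℕ} (x : Fin n → Fˣ) {i j : Fin n} (hij : i ≠ j)
    (h : (x i : F) + x j = 1) : symbol x = 0 := by
  rcases lt_or_gt_of_ne hij with hlt | hlt
  · exact symbol_eq_zero_of_isSteinberg x ⟨i, j, hlt, h⟩
  · exact symbol_eq_zero_of_isSteinberg x ⟨j, i, hlt, by rw [add_comm, h]⟩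

theorem symbol_eq_zero_of_neg {n : ℕ} (x : Fin n → Fˣ) {i j : Fin n} (hij : i ≠ j)
    (h : x j = -x i) : symbol x = 0 := by
  by_cases h1 : x i = 1
  · exact symbol_eq_zero_of_one x i h1
  have h1' : (x i : F) ≠ 1 := fun e => h1 (Units.ext e)
  have hx0 : (x i : F) ≠ 0 := (x i).ne_zero
  let a : Fˣ := Units.mk0 (1 - (x i : F)) (sub_ne_zero.2 (Ne.symm h1'))
  let b : Fˣ := Units.mk0 (1 - (x i : F)⁻¹) (sub_ne_zero.2 fun e => h1' (inv_eq_one.1 e.symm))
  have hab : -x i = a * b⁻¹ := by
    rw [eq_mul_inv_iff_mul_eq]
    ext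
    simp only [a, b, Units.val_mul, Units.val_neg, Units.val_mk0]
    field_simp
    ring
  have hsplit : symbol x = symbol (update x j a) + symbol (update x j b⁻¹) := by
    rw [← symbol_update_mul, ← hab, ← h, update_eq_self]
  have ha : symbol (update x j a) = 0 :=
    symbol_eq_zero_of_add _ hij (by rw [update_of_ne hij, update_self]; simp [a])
  have hb : symbol (update (update x j b) i (x i)⁻¹) = 0 :=
    symbol_eq_zero_of_add _ hij (by rw [update_self, update_of_ne hij.symm, update_self]; simp [b])
  rw [symbol_update_inv, neg_eq_zero] at hb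
  rw [update_comm hij.symm, update_eq_self] at hb
  rw [hsplit, ha, zero_add, symbol_update_inv, hb, neg_zero]

theorem symbol_swap {n : ℕ} (x : Fin n → Fˣ) {i j : Fin n} (hij : i ≠ j) :
    symbol (x ∘ Equiv.swap i j) = -symbol x := by
  let g : Fˣ → Fˣ → K F n := fun a b => symbol (update (update x i a) j b)
  have hl : ∀ a a' b, g (a * a') b = g a b + g a' b := by
    intro a a' b
    simp only [g, update_comm hij]
    exact symbol_update_mul _ i a a'
  have hr : ∀ a b b', g a (b * b') = g a b + g a b' := fun a b b' => symbol_update_mul _ j b b'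
  have hz : ∀ a, g a (-a) = 0 := fun a =>
    symbol_eq_zero_of_neg _ hij (by rw [update_self, update_of_ne hij, update_self])
  have h := hz (x i * x j)
  rw [show -(x i * x j) = -x i * x j from (neg_mul _ _).symm, hl] at h
  rw [hr, hz, zero_add, show -x i * x j = x i * -x j by rw [neg_mul, mul_neg], hr, hz, add_zero] at h
  have e1 : update (update x i (x i)) j (x j) = x := by simp
  have e2 : update (update x i (x j)) j (x i) = x ∘ Equiv.swap i j := by
    rw [Equiv.comp_swap_eq_update, update_comm hij]
  simp only [g, e1, e2] at h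
  exact eq_neg_of_add_eq_zero_right h

theorem symbol_perm {n : ℕ} (σ : Equiv.Perm (Fin n)) :
    ∀ x : Fin n → Fˣ, symbol (x ∘ σ) = (Equiv.Perm.sign σ : ℤ) • symbol x := by
  induction σ using Equiv.Perm.swap_induction_on with
  | one => intro x; simp
  | swap_mul f i j hij ih =>
    intro x
    rw [Equiv.Perm.coe_mul, ← comp_assoc, ih, symbol_swap x hij, Equiv.Perm.sign_mul,
      Equiv.Perm.sign_swap hij, neg_one_mul, Units.val_neg, neg_smul, smul_neg]

/-! ### Adjoining an entry in front -/

/-- The multilinear map behind `cons`. -/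
noncomputable def consM (F : Type u) [Field F] (n : ℕ) (a : Additive Fˣ) :
    MultilinearMap ℤ (fun _ : Fin n => Additive Fˣ) (K F (n + 1)) :=
  (symbolM F (n + 1)).curryLeft a

theorem consM_apply {n : ℕ} (a : Additive Fˣ) (x : Fin n → Fˣ) :
    consM F n a (fun i => Additive.ofMul (x i)) = symbol (Fin.cons a.toMul x) := by
  simp only [consM, MultilinearMap.curryLeft_apply, symbolM_apply]
  congr 1 with i

/-- `{x₁, …} ↦ {a, x₁, …}`. -/
noncomputable def cons {n : ℕ} : Additive Fˣ →+ K F n →+ K F (n + 1) :=
  AddMonoidHom.mk' (fun a => MilK.lift (consM F n a) (fun x hx => by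
    rw [consM_apply]
    obtain ⟨i, j, hij, h⟩ := hx
    exact symbol_eq_zero_of_isSteinberg _ ⟨i.succ, j.succ, Fin.succ_lt_succ_iff.2 hij, by
      simpa using h⟩))
    fun a b => hom_ext fun x => by
      simp only [lift_symbol, AddMonoidHom.add_apply]
      simp [consM]

theorem cons_symbol {n : ℕ} (a : Additive Fˣ) (x : Fin n → Fˣ) :
    cons a (symbol x) = symbol (Fin.cons a.toMul x) :=
  (lift_symbol _ _ x).trans (consM_apply a x)

theorem cons_cons_symbol {n : ℕ} (a b : Additive Fˣ) (x : Fin n → Fˣ) :
    cons a (cons b (symbol x)) = symbol (Fin.cons a.toMul (Fin.cons b.toMul x : Fin (n + 1) → Fˣ)) := by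
  rw [cons_symbol, cons_symbol]

theorem cons_cons_eq_zero {n : ℕ} {a b : Additive Fˣ} (h : (a.toMul : F) + b.toMul = 1) (z : K F n) :
    cons a (cons b z) = 0 := by
  have : (cons a).comp (cons b) = (0 : K F n →+ K F (n + 2)) := hom_ext fun x => by
    rw [AddMonoidHom.comp_apply, cons_cons_symbol, AddMonoidHom.zero_apply]
    exact symbol_eq_zero_of_add _ (show (0 : Fin (n + 2)) ≠ Fin.succ 0 from (Fin.succ_ne_zero 0).symm)
      (by simpa using h)
  exact DFunLike.congr_fun this z

theorem cons_cons_neg {n : ℕ} (a : Additive Fˣ) (z : K F n) :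
    cons a (cons (Additive.ofMul (-a.toMul)) z) = 0 := by
  have : (cons a).comp (cons (Additive.ofMul (-a.toMul))) = (0 : K F n →+ K F (n + 2)) :=
    hom_ext fun x => by
      rw [AddMonoidHom.comp_apply, cons_cons_symbol, AddMonoidHom.zero_apply]
      exact symbol_eq_zero_of_neg _ (show (0 : Fin (n + 2)) ≠ Fin.succ 0 from (Fin.succ_ne_zero 0).symm)
        (by simp)
  exact DFunLike.congr_fun this z

theorem cons_comm {n : ℕ} (a b : Additive Fˣ) (z : K F n) :
    cons a (cons b z) = -cons b (cons a z) := by
  have : (cons a).comp (cons b) = (-(cons b).comp (cons a) : K F n →+ K F (n + 2)) := hom_ext fun x => by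
    rw [AddMonoidHom.neg_apply, AddMonoidHom.comp_apply, AddMonoidHom.comp_apply, cons_cons_symbol,
      cons_cons_symbol]
    rw [← symbol_swap _ (show (0 : Fin (n + 2)) ≠ Fin.succ 0 from (Fin.succ_ne_zero 0).symm)]
    congr 1
    funext i
    cases i using Fin.cases with
    | zero => simp
    | succ i =>
      cases i using Fin.cases with
      | zero => simp
      | succ i =>
        rw [comp_apply, Equiv.swap_apply_of_ne_of_ne (Fin.succ_ne_zero _)
          (fun h => Fin.succ_ne_zero i (Fin.succ_injective _ h))]
        simp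
  exact DFunLike.congr_fun this z

/-- `{-1}`. -/
def negOne (F : Type u) [Field F] : Additive Fˣ := Additive.ofMul (-1)

theorem negOne_add_negOne : negOne F + negOne F = 0 := by
  change Additive.ofMul ((-1 : Fˣ) * -1) = Additive.ofMul 1
  rw [neg_one_mul, neg_neg]

theorem cons_negOne_add {n : ℕ} (z : K F n) : cons (negOne F) z + cons (negOne F) z = 0 := by
  rw [← AddMonoidHom.add_apply, ← map_add cons, negOne_add_negOne, map_zero cons,
    AddMonoidHom.zero_apply]

theorem cons_self {n : ℕ} (a : Additive Fˣ) (z : K F n) :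
    cons a (cons a z) = cons a (cons (negOne F) z) := by
  have h : cons a (cons (a + negOne F) z) = 0 := by
    have : a + negOne F = Additive.ofMul (-a.toMul) := by
      change Additive.ofMul (a.toMul * -1) = _
      rw [mul_neg, mul_one]
    rw [this]; exact cons_cons_neg a z
  rw [map_add cons, AddMonoidHom.add_apply, map_add] at h
  rw [eq_neg_of_add_eq_zero_left h, ← map_neg]
  congr 1
  exact (eq_neg_of_add_eq_zero_left (cons_negOne_add z)).symm

theorem map_cons {E : Type v} [Field E] (φ : F →+* E) {n : ℕ} (a : Fˣ) (z : K F n) :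
    MilK.map φ (n + 1) (cons (Additive.ofMul a) z) =
      cons (Additive.ofMul (Units.map (φ : F →* E) a)) (MilK.map φ n z) := by
  have : (MilK.map φ (n + 1)).comp (cons (Additive.ofMul a)) =
      (cons (Additive.ofMul (Units.map (φ : F →* E) a))).comp (MilK.map φ n) := hom_ext fun x => by
    simp only [AddMonoidHom.comp_apply, cons_symbol, map_symbol]
    congr 1
    funext i
    cases i using Fin.cases <;> simp
  exact DFunLike.congr_fun this z

/-! ### Graded commutativity -/

theorem sign_finRotate_pow (n m : ℕ) :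
    (Equiv.Perm.sign (finRotate (n + m) ^ m) : ℤ) = (-1) ^ (n * m) := by
  rw [map_pow, sign_finRotate, Units.val_pow_eq_pow_val, Units.val_pow_eq_pow_val, ← pow_mul,
    Units.val_neg, Units.val_one]
  rcases m with _ | m
  · simp
  have : (n + (m + 1) - 1) * (m + 1) = n * (m + 1) + m * (m + 1) := by
    rw [show n + (m + 1) - 1 = n + m by omega, add_mul]
  rw [this, pow_add, (Nat.even_mul_succ_self m).neg_one_pow, mul_one]

theorem finRotate_pow_val (N m : ℕ) (i : Fin N) :
    (((finRotate N) ^ m) i : ℕ) = (i + m) % N := by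
  induction m with
  | zero => simp [Nat.mod_eq_of_lt i.isLt]
  | succ m ih =>
    rw [pow_succ', Equiv.Perm.mul_apply]
    rcases N with _ | N
    · exact i.elim0
    rw [finRotate_succ_apply, Fin.val_add, ih, Fin.val_one', Nat.add_mod_mod, Nat.mod_add_mod,
      add_assoc]

theorem mul_graded_comm (n m : ℕ) (x : K F n) (y : K F m) :
    MilK.mul F n m x y = ((-1 : ℤ) ^ (n * m)) • MilK.cast F (Nat.add_comm m n) (MilK.mul F m n y x) := by
  induction x using symbol_induction with
  | h0 => simp
  | hadd a b ha hb => simp [map_add, AddMonoidHom.add_apply, ha, hb, smul_add]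
  | hneg a ha => simp [map_neg, AddMonoidHom.neg_apply, ha, smul_neg]
  | hs a =>
    induction y using symbol_induction with
    | h0 => simp
    | hadd c d hc hd => simp [map_add, AddMonoidHom.add_apply, hc, hd, smul_add]
    | hneg c hc => simp [map_neg, AddMonoidHom.neg_apply, hc, smul_neg]
    | hs b =>
      rw [mul_symbol_symbol, mul_symbol_symbol, cast_symbol, ← sign_finRotate_pow n m,
        ← symbol_perm]
      congr 1
      funext i
      simp only [comp_apply]
      induction i using Fin.addCases with
      | left i =>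
        rw [Fin.append_left]
        have : Fin.cast (Nat.add_comm m n).symm (((finRotate (n + m)) ^ m) (Fin.castAdd m i)) =
            Fin.natAdd m i := by
          ext
          rw [Fin.val_cast, finRotate_pow_val, Fin.val_castAdd, Fin.val_natAdd,
            Nat.mod_eq_of_lt (by omega), add_comm]
        rw [this, Fin.append_right]
      | right i =>
        rw [Fin.append_right]
        have : Fin.cast (Nat.add_comm m n).symm (((finRotate (n + m)) ^ m) (Fin.natAdd n i)) =
            Fin.castAdd n i := by
          ext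
          rw [Fin.val_cast, finRotate_pow_val, Fin.val_castAdd, Fin.val_natAdd,
            show n + (i : ℕ) + m = (i : ℕ) + (n + m) by omega, Nat.add_mod_right,
            Nat.mod_eq_of_lt (by omega)]
        rw [this, Fin.append_left]

end Groth.Agent.MilnorK
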