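import Groth.Agent.MilnorK.Basic
import Mathlib.RingTheory.DiscreteValuationRing.Basic
import Mathlib.Algebra.Module.Prod
import Mathlib.RingTheory.LocalRing.ResidueField.Basic

/-!
# The tame symbol and the specialisation maps of a discrete valuation ring

Both are built at once, as the two components of one multilinear map: for `x = ϖ ^ e * u` prepending
`x` sends `(a, b)` to `({ū} a, e a + (e {-1} - {ū}) b)`.
-/

universe u v w

namespace Groth.Agent.MilnorK

open MilK Function

variable {F : Type u} [Field F]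

/-- `b ↦ (e {-1} - {r}) b`. -/
noncomputable def twist (e : ℤ) (r : Additive Fˣ) {n : ℕ} : K F n →+ K F (n + 1) :=
  cons (e • negOne F - r)

theorem cons_cons_add_comm {n : ℕ} (a b : Additive Fˣ) (z : K F n) :
    cons a (cons b z) + cons b (cons a z) = 0 := by
  rw [cons_comm a b z, neg_add_cancel]

theorem twist_twist_add_comm (e f : ℤ) (r s : Additive Fˣ) {n : ℕ} (b : K F n) :
    twist e r (twist f s b) + twist f s (twist e r b) = 0 :=
  cons_cons_add_comm _ _ _

theorem mixed_add_comm (e f : ℤ) (r s : Additive Fˣ) {n : ℕ} (a : K F n) :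
    (e • cons s a + twist e r (f • a)) + (f • cons r a + twist f s (e • a)) = 0 := by
  simp only [twist, map_sub cons, map_zsmul cons, AddMonoidHom.sub_apply, AddMonoidHom.smul_apply,
    map_zsmul, smul_smul, smul_sub]
  rw [mul_comm e f]
  have h : (f * e) • cons (negOne F) a + (f * e) • cons (negOne F) a = 0 := by
    rw [← smul_add, cons_negOne_add, smul_zero]
  calc _ = (f * e) • cons (negOne F) a + (f * e) • cons (negOne F) a := by abel
    _ = 0 := h

/-- The shapes of the valuations and residues of `x`, `y` with `x + y = 1`. -/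
inductive SteinbergShape (e f : ℤ) (r s : Additive Fˣ) : Prop
  | left (hf : f = 0) (hs : s = 0)
  | right (he : e = 0) (hr : r = 0)
  | units (he : e = 0) (hf : f = 0) (h : (r.toMul : F) + s.toMul = 1)
  | poles (hef : f = e) (h : s = r + negOne F)

theorem zsmul_cons_negOne {n : ℕ} (i : ℤ) (hi : Even i) (z : K F n) : i • cons (negOne F) z = 0 := by
  obtain ⟨j, rfl⟩ := hi
  rw [add_smul, ← smul_add, cons_negOne_add, smul_zero]

variable {e f : ℤ} {r s : Additive Fˣ}

theorem SteinbergShape.cons_cons (h : SteinbergShape e f r s) {n : ℕ} (a : K F n) :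
    cons r (cons s a) = 0 := by
  rcases h with ⟨-, rfl⟩ | ⟨-, rfl⟩ | ⟨-, -, h⟩ | ⟨-, rfl⟩
  · simp
  · simp
  · exact cons_cons_eq_zero h a
  · have : r + negOne F = Additive.ofMul (-r.toMul) := by
      change Additive.ofMul (r.toMul * -1) = _
      rw [mul_neg, mul_one]
    rw [this]; exact cons_cons_neg r a

theorem SteinbergShape.mixed (h : SteinbergShape e f r s) {n : ℕ} (a : K F n) :
    e • cons s a + twist e r (f • a) = 0 := by
  rcases h with ⟨rfl, rfl⟩ | ⟨rfl, rfl⟩ | ⟨rfl, rfl, -⟩ | ⟨rfl, rfl⟩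
  · simp
  · simp [twist]
  · simp
  · simp only [twist, map_sub cons, map_add cons, map_zsmul cons, AddMonoidHom.sub_apply,
      AddMonoidHom.add_apply, AddMonoidHom.smul_apply, map_zsmul, smul_smul, smul_sub, smul_add]
    calc _ = f • cons (negOne F) a + (f * f) • cons (negOne F) a := by abel
      _ = 0 := by
        rw [← add_smul]
        exact zsmul_cons_negOne _ (by simpa [mul_add, add_comm] using Int.even_mul_succ_self f) a

theorem SteinbergShape.twist_twist (h : SteinbergShape e f r s) {n : ℕ} (b : K F n) :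
    twist e r (twist f s b) = 0 := by
  rcases h with ⟨rfl, rfl⟩ | ⟨rfl, rfl⟩ | ⟨rfl, rfl, h⟩ | ⟨rfl, rfl⟩
  · simp [twist]
  · simp [twist]
  · simp only [twist, zero_smul, zero_sub, map_neg cons, AddMonoidHom.neg_apply, map_neg, neg_neg]
    exact cons_cons_eq_zero h b
  · simp only [twist]
    have hh : f • negOne F - (r + negOne F) = (f • negOne F - r) + negOne F := by
      have := negOne_add_negOne (F := F)
      calc f • negOne F - (r + negOne F) = f • negOne F - r - negOne F := by abel
        _ = f • negOne F - r - negOne F + (negOne F + negOne F) := by rw [this, add_zero]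
        _ = _ := by abel
    rw [hh, map_add cons (f • negOne F - r), AddMonoidHom.add_apply, map_add, cons_self,
      ← map_add (cons (n := n + 1) _), cons_negOne_add, map_zero]

/-- Prepending an entry of valuation `e` and residue `r`. -/
noncomputable def step (n : ℕ) (e : ℤ) (r : Additive Fˣ) :
    K F (n + 1) × K F n →+ K F (n + 2) × K F (n + 1) :=
  AddMonoidHom.mk' (fun p => (cons r p.1, e • p.1 + twist e r p.2)) fun p q => by
    simp [add_add_add_comm]

/-- Prepending an entry to a class without residue. -/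
noncomputable def step₀ (n : ℕ) (e : ℤ) (r : Additive Fˣ) : K F n →+ K F (n + 1) × K F n :=
  AddMonoidHom.mk' (fun a => (cons r a, e • a)) fun a b => by simp

theorem step_add (n : ℕ) (e e' : ℤ) (r r' : Additive Fˣ) :
    step n (e + e') (r + r') = step n e r + step (F := F) n e' r' := by
  refine AddMonoidHom.ext fun p => Prod.ext (by simp [step]) ?_
  simp only [step, twist, AddMonoidHom.mk'_apply, AddMonoidHom.add_apply, Prod.snd_add]
  rw [show (e + e') • negOne F - (r + r') = (e • negOne F - r) + (e' • negOne F - r') by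
      rw [add_zsmul]; abel, map_add cons, AddMonoidHom.add_apply, add_zsmul]
  abel

theorem step₀_add (n : ℕ) (e e' : ℤ) (r r' : Additive Fˣ) :
    step₀ n (e + e') (r + r') = step₀ n e r + step₀ (F := F) n e' r' := by
  refine AddMonoidHom.ext fun p => Prod.ext (by simp [step₀]) ?_
  simp only [step₀, AddMonoidHom.mk'_apply, AddMonoidHom.add_apply, Prod.snd_add, add_smul]

theorem step_step_comm (n : ℕ) (e f : ℤ) (r s : Additive Fˣ) (p : K F (n + 1) × K F n) :
    step (n + 1) e r (step n f s p) = -step (n + 1) f s (step n e r p) := by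
  rw [eq_neg_iff_add_eq_zero]
  refine Prod.ext (cons_cons_add_comm r s p.1) ?_
  simp only [step, AddMonoidHom.mk'_apply, Prod.snd_add, map_add, Prod.snd_zero]
  rw [show e • cons s p.1 + (twist e r (f • p.1) + twist e r (twist f s p.2)) +
      (f • cons r p.1 + (twist f s (e • p.1) + twist f s (twist e r p.2))) =
      ((e • cons s p.1 + twist e r (f • p.1)) + (f • cons r p.1 + twist f s (e • p.1))) +
      (twist e r (twist f s p.2) + twist f s (twist e r p.2)) by abel,
    mixed_add_comm, twist_twist_add_comm, add_zero]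

theorem step_step₀_comm (n : ℕ) (e f : ℤ) (r s : Additive Fˣ) (a : K F n) :
    step n e r (step₀ n f s a) = -step n f s (step₀ n e r a) := by
  rw [eq_neg_iff_add_eq_zero]
  exact Prod.ext (cons_cons_add_comm r s a) (mixed_add_comm e f r s a)

theorem SteinbergShape.step_step (h : SteinbergShape e f r s) (n : ℕ) (p : K F (n + 1) × K F n) :
    step (n + 1) e r (step n f s p) = 0 := by
  refine Prod.ext (h.cons_cons p.1) ?_
  simp only [step, AddMonoidHom.mk'_apply, map_add, Prod.snd_zero]
  rw [← add_assoc, h.mixed, h.twist_twist, add_zero]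

theorem SteinbergShape.step_step₀ (h : SteinbergShape e f r s) (n : ℕ) (a : K F n) :
    step n e r (step₀ n f s a) = 0 :=
  Prod.ext (h.cons_cons a) (h.mixed a)

/-- The class of the empty symbol. -/
noncomputable def unit₀ (F : Type u) [Field F] : K F 0 := symbol Fin.elim0

theorem symbol_fin_zero (x : Fin 0 → Fˣ) : symbol x = unit₀ F := by
  rw [unit₀]; congr 1; exact funext fun i => i.elim0

/-! ### The valuation -/

section DVR

variable {A : Type u} [CommRing A] [IsDomain A] [IsDiscreteValuationRing A]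
  (L : Type v) [Field L] [Algebra A L] [IsFractionRing A L]

variable {ϖ : A} (hϖ : Irreducible ϖ)

include hϖ

theorem zpow_mul_eq_one {e : ℤ} {u : Aˣ} (h : unitFrac A L ϖ hϖ.ne_zero ^ e * unitToFrac A L u = 1) :
    e = 0 ∧ u = 1 := by
  have hinj : Function.Injective (algebraMap A L) := IsFractionRing.injective A L
  have hpos : ∀ (n : ℕ) (w : Aˣ), ϖ ^ n * (w : A) = 1 → n = 0 := by
    intro n w hw
    by_contra hn
    exact hϖ.not_isUnit ((isUnit_pow_iff hn).1 (IsUnit.of_mul_eq_one _ hw))
  have he : e = 0 := by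
    rcases Int.eq_nat_or_neg e with ⟨n, rfl | rfl⟩
    · rw [zpow_natCast] at h
      have h' := congrArg (fun z : Lˣ => (z : L)) h
      simp only [Units.val_mul, Units.val_pow_eq_pow_val, coe_unitFrac, Units.val_one] at h'
      exact_mod_cast hpos n u (hinj (by rw [map_mul, map_pow, map_one]; exact h'))
    · have h1 : unitFrac A L ϖ hϖ.ne_zero ^ n * unitToFrac A L u⁻¹ = 1 := by
        rw [← inv_inj, inv_one, mul_inv, ← map_inv, inv_inv, ← zpow_natCast, ← zpow_neg]
        exact h
      have h' := congrArg (fun z : Lˣ => (z : L)) h1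
      simp only [Units.val_mul, Units.val_pow_eq_pow_val, coe_unitFrac, Units.val_one] at h'
      rw [hpos n u⁻¹ (hinj (by rw [map_mul, map_pow, map_one]; exact h'))]
      rfl
  subst he
  rw [zpow_zero, one_mul] at h
  exact ⟨rfl, Units.ext (hinj ((congrArg (fun z : Lˣ => (z : L)) h).trans (map_one _).symm))⟩

/-- `(e, u) ↦ ϖ ^ e * u`. -/
noncomputable def combine : Multiplicative ℤ × Aˣ →* Lˣ :=
  (zpowersHom Lˣ (unitFrac A L ϖ hϖ.ne_zero)).coprod (unitToFrac A L)

theorem combine_apply (e : ℤ) (u : Aˣ) :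
    combine L hϖ (Multiplicative.ofAdd e, u) = unitFrac A L ϖ hϖ.ne_zero ^ e * unitToFrac A L u := rfl

theorem combine_bijective : Function.Bijective (combine L hϖ) := by
  refine ⟨(injective_iff_map_eq_one _).2 fun ⟨e, u⟩ h => ?_, fun x => ?_⟩
  · obtain ⟨h1, h2⟩ := zpow_mul_eq_one L hϖ (e := e.toAdd) h
    exact Prod.ext h1 h2
  · obtain ⟨a, b, hb, hab⟩ := IsFractionRing.div_surjective A (x : L)
    have hb0 : b ≠ 0 := nonZeroDivisors.ne_zero hb
    have ha0 : a ≠ 0 := fun h => x.ne_zero (by rw [← hab, h, map_zero, zero_div])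
    obtain ⟨n, w, rfl⟩ := IsDiscreteValuationRing.eq_unit_mul_pow_irreducible ha0 hϖ
    obtain ⟨m, w', rfl⟩ := IsDiscreteValuationRing.eq_unit_mul_pow_irreducible hb0 hϖ
    refine ⟨(Multiplicative.ofAdd ((n : ℤ) - m), w * w'⁻¹), Units.ext ?_⟩
    rw [combine_apply, ← hab, zpow_sub, map_mul, map_inv]
    simp only [Units.val_mul, Units.val_inv_eq_inv_val, zpow_natCast, Units.val_pow_eq_pow_val,
      coe_unitFrac, map_mul, map_pow, unitToFrac, Units.coe_map, MonoidHom.coe_coe]
    field_simp

/-- `x ↦ (valuation, unit part)`. -/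
noncomputable def split : Lˣ ≃* Multiplicative ℤ × Aˣ :=
  (MulEquiv.ofBijective (combine L hϖ) (combine_bijective L hϖ)).symm

theorem split_combine (e : ℤ) (u : Aˣ) :
    split L hϖ (unitFrac A L ϖ hϖ.ne_zero ^ e * unitToFrac A L u) = (Multiplicative.ofAdd e, u) :=
  (MulEquiv.symm_apply_eq _).2 rfl

theorem exists_eq_combine (x : Lˣ) :
    ∃ (e : ℤ) (u : Aˣ), x = unitFrac A L ϖ hϖ.ne_zero ^ e * unitToFrac A L u := by
  obtain ⟨⟨e, u⟩, rfl⟩ := (combine_bijective L hϖ).2 x
  exact ⟨e.toAdd, u, rfl⟩

/-- The valuation. -/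
noncomputable def val : Additive Lˣ →+ ℤ :=
  MonoidHom.toAdditiveLeft ((MonoidHom.fst (Multiplicative ℤ) Aˣ).comp (split L hϖ).toMonoidHom)

/-- The residue of the unit part. -/
noncomputable def res : Additive Lˣ →+ Additive (IsLocalRing.ResidueField A)ˣ :=
  MonoidHom.toAdditive
    ((unitResidue A).comp ((MonoidHom.snd (Multiplicative ℤ) Aˣ).comp (split L hϖ).toMonoidHom))

theorem val_combine (e : ℤ) (u : Aˣ) :
    val L hϖ (Additive.ofMul (unitFrac A L ϖ hϖ.ne_zero ^ e * unitToFrac A L u)) = e := by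
  change ((split L hϖ (unitFrac A L ϖ hϖ.ne_zero ^ e * unitToFrac A L u)).1).toAdd = e
  rw [split_combine]; rfl

theorem res_combine (e : ℤ) (u : Aˣ) :
    res L hϖ (Additive.ofMul (unitFrac A L ϖ hϖ.ne_zero ^ e * unitToFrac A L u)) =
      Additive.ofMul (unitResidue A u) := by
  change Additive.ofMul
    (unitResidue A (split L hϖ (unitFrac A L ϖ hϖ.ne_zero ^ e * unitToFrac A L u)).2) = _
  rw [split_combine]

theorem val_unit (u : Aˣ) : val L hϖ (Additive.ofMul (unitToFrac A L u)) = 0 := by
  simpa using val_combine L hϖ 0 u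

theorem res_unit (u : Aˣ) :
    res L hϖ (Additive.ofMul (unitToFrac A L u)) = Additive.ofMul (unitResidue A u) := by
  simpa using res_combine L hϖ 0 u

theorem residue_eq_zero : IsLocalRing.residue A ϖ = 0 :=
  (IsLocalRing.residue_eq_zero_iff _).2 ((IsLocalRing.mem_maximalIdeal _).2 hϖ.not_isUnit)

theorem shape_of_pos {x y : Additive Lˣ} (h : (x.toMul : L) + y.toMul = 1) (he : 0 < val L hϖ x) :
    val L hϖ y = 0 ∧ res L hϖ y = 0 := by
  obtain ⟨e, u, hx⟩ := exists_eq_combine L hϖ x.toMul
  rw [← ofMul_toMul x, hx, val_combine] at he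
  obtain ⟨n, rfl⟩ := Int.eq_ofNat_of_zero_le he.le
  have hn : n ≠ 0 := by omega
  have hres : IsLocalRing.residue A (1 - ϖ ^ n * u) = 1 := by
    rw [map_sub, map_one, map_mul, map_pow, residue_eq_zero hϖ, zero_pow hn, zero_mul, sub_zero]
  have hunit : IsUnit (1 - ϖ ^ n * (u : A)) :=
    (IsLocalRing.residue_ne_zero_iff_isUnit _).1 (hres ▸ one_ne_zero)
  have hy : y.toMul = unitToFrac A L hunit.unit := by
    ext
    rw [eq_sub_of_add_eq' h, hx]
    simp [unitToFrac]
  rw [← ofMul_toMul y, hy, val_unit, res_unit]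
  refine ⟨rfl, ?_⟩
  rw [← ofMul_one]
  congr 1
  exact Units.ext hres

theorem shape_of_le {x y : Additive Lˣ} (h : (x.toMul : L) + y.toMul = 1)
    (hneg : val L hϖ x < 0) (hle : val L hϖ x ≤ val L hϖ y) :
    val L hϖ y = val L hϖ x ∧
      res L hϖ y = res L hϖ x + negOne (IsLocalRing.ResidueField A) := by
  obtain ⟨e, u, hx⟩ := exists_eq_combine L hϖ x.toMul
  obtain ⟨f, v, hy⟩ := exists_eq_combine L hϖ y.toMul
  obtain rfl : x = Additive.ofMul (unitFrac A L ϖ hϖ.ne_zero ^ e * unitToFrac A L u) :=
    Additive.toMul.injective hx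
  obtain rfl : y = Additive.ofMul (unitFrac A L ϖ hϖ.ne_zero ^ f * unitToFrac A L v) :=
    Additive.toMul.injective hy
  rw [val_combine] at hneg
  rw [val_combine, val_combine] at hle
  rw [val_combine, val_combine, res_combine, res_combine]
  simp only [toMul_ofMul] at h
  obtain ⟨n, hn⟩ := Int.eq_ofNat_of_zero_le (show 0 ≤ -e by omega)
  obtain ⟨m, hm⟩ := Int.eq_ofNat_of_zero_le (show 0 ≤ f - e by omega)
  have hA : (u : A) + ϖ ^ m * v = ϖ ^ n := by
    apply IsFractionRing.injective A L
    have hp0 : algebraMap A L ϖ ≠ 0 := (unitFrac A L ϖ hϖ.ne_zero).ne_zero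
    simp only [Units.val_mul, Units.val_zpow_eq_zpow_val, coe_unitFrac, unitToFrac, Units.coe_map,
      MonoidHom.coe_coe] at h
    have h' := congrArg (fun z : L => algebraMap A L ϖ ^ (-e) * z) h
    simp only [mul_add, ← mul_assoc, ← zpow_add₀ hp0, neg_add_cancel, zpow_zero, one_mul, mul_one]
      at h'
    rw [show -e + f = (m : ℤ) by omega, hn, zpow_natCast, zpow_natCast] at h'
    rw [map_add, map_mul, map_pow, map_pow]
    exact h'
  have hr := congrArg (IsLocalRing.residue A) hA
  rw [map_add, map_mul, map_pow, map_pow, residue_eq_zero hϖ, zero_pow (show n ≠ 0 by omega)] at hr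
  have hm0 : m = 0 := by
    by_contra hm0
    rw [zero_pow hm0, zero_mul, add_zero] at hr
    exact (IsLocalRing.residue_ne_zero_iff_isUnit _).2 u.isUnit hr
  subst hm0
  rw [pow_zero, one_mul] at hr
  refine ⟨by omega, ?_⟩
  change Additive.ofMul (unitResidue A v) = Additive.ofMul (unitResidue A u * -1)
  congr 1
  ext
  rw [Units.val_mul, Units.val_neg, Units.val_one, mul_neg, mul_one]
  exact eq_neg_of_add_eq_zero_right hr

theorem steinbergShape {x y : Additive Lˣ} (h : (x.toMul : L) + y.toMul = 1) :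
    SteinbergShape (val L hϖ x) (val L hϖ y) (res L hϖ x) (res L hϖ y) := by
  rcases lt_trichotomy (val L hϖ x) 0 with hx | hx | hx
  · rcases le_total (val L hϖ x) (val L hϖ y) with hle | hle
    · obtain ⟨h1, h2⟩ := shape_of_le L hϖ h hx hle
      exact .poles h1 h2
    · obtain ⟨h1, h2⟩ := shape_of_le L hϖ (x := y) (y := x) (by rw [add_comm, h]) (by omega) hle
      exact .poles h1.symm (by rw [h2, add_assoc, negOne_add_negOne, add_zero])
  · rcases lt_trichotomy (val L hϖ y) 0 with hy | hy | hy
    · obtain ⟨h1, -⟩ := shape_of_le L hϖ (x := y) (y := x) (by rw [add_comm, h]) hy (by omega)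
      omega
    · obtain ⟨e, u, hxe⟩ := exists_eq_combine L hϖ x.toMul
      obtain ⟨f, v, hye⟩ := exists_eq_combine L hϖ y.toMul
      refine .units hx hy ?_
      obtain rfl : x = Additive.ofMul (unitFrac A L ϖ hϖ.ne_zero ^ e * unitToFrac A L u) :=
        Additive.toMul.injective hxe
      obtain rfl : y = Additive.ofMul (unitFrac A L ϖ hϖ.ne_zero ^ f * unitToFrac A L v) :=
        Additive.toMul.injective hye
      rw [val_combine] at hx hy
      subst hx hy
      rw [res_combine, res_combine]
      simp only [toMul_ofMul, zpow_zero, one_mul, unitToFrac, Units.coe_map, MonoidHom.coe_coe] at h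
      rw [← map_add, ← map_one (algebraMap A L)] at h
      have := congrArg (IsLocalRing.residue A) (IsFractionRing.injective A L h)
      rw [map_add, map_one] at this
      exact this
    · obtain ⟨h1, h2⟩ := shape_of_pos L hϖ (x := y) (y := x) (by rw [add_comm, h]) hy
      exact .right h1 h2
  · obtain ⟨h1, h2⟩ := shape_of_pos L hϖ h hx
    exact .left h1 h2

/-! ### The combined map -/

/-- The target of the combined map in degree `n + 1`. -/
abbrev Pair (A : Type u) [CommRing A] [IsDomain A] [IsDiscreteValuationRing A] (n : ℕ) : Type u :=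
  K (IsLocalRing.ResidueField A) (n + 1) × K (IsLocalRing.ResidueField A) n

/-- The multilinear map `(x₀, …, xₙ) ↦ (s, ∂)`. -/
noncomputable def pairM : ∀ n : ℕ, MultilinearMap ℤ (fun _ : Fin (n + 1) => Additive Lˣ) (Pair A n)
  | 0 => LinearMap.uncurryLeft (M := fun _ : Fin 1 => Additive Lˣ)
      (AddMonoidHom.toIntLinearMap <| AddMonoidHom.mk' (fun x => MultilinearMap.constOfIsEmpty ℤ _
        (step₀ 0 (val L hϖ x) (res L hϖ x) (unit₀ _))) fun x y => by
        ext w <;> simp [step₀_add, map_add, MultilinearMap.add_apply])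
  | n + 1 => LinearMap.uncurryLeft (M := fun _ : Fin (n + 2) => Additive Lˣ)
      (AddMonoidHom.toIntLinearMap <| AddMonoidHom.mk' (fun x =>
        (step n (val L hϖ x) (res L hϖ x)).toIntLinearMap.compMultilinearMap (pairM n)) fun x y => by
        ext w <;> simp [step_add])

theorem pairM_zero (v : Fin 1 → Additive Lˣ) :
    pairM L hϖ 0 v = step₀ 0 (val L hϖ (v 0)) (res L hϖ (v 0)) (unit₀ _) := rfl

theorem pairM_succ (n : ℕ) (v : Fin (n + 2) → Additive Lˣ) :
    pairM L hϖ (n + 1) v = step n (val L hϖ (v 0)) (res L hϖ (v 0)) (pairM L hϖ n (Fin.tail v)) := rfl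

theorem step_pairM_eq_zero : ∀ (n : ℕ) (x : Additive Lˣ) (v : Fin (n + 1) → Additive Lˣ)
    (j : Fin (n + 1)), (x.toMul : L) + (v j).toMul = 1 →
    step n (val L hϖ x) (res L hϖ x) (pairM L hϖ n v) = 0
  | 0, x, v, j, h => by
    rw [Fin.fin_one_eq_zero j] at h
    exact (steinbergShape L hϖ h).step_step₀ 0 _
  | n + 1, x, v, j, h => by
    cases j using Fin.cases with
    | zero => exact (steinbergShape L hϖ h).step_step n _
    | succ j =>
      rw [pairM_succ, step_step_comm, step_pairM_eq_zero n x (Fin.tail v) j h, map_zero, neg_zero]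

theorem pairM_steinberg : ∀ (n : ℕ) (v : Fin (n + 1) → Additive Lˣ) (i j : Fin (n + 1)), i < j →
    ((v i).toMul : L) + (v j).toMul = 1 → pairM L hϖ n v = 0
  | 0, v, i, j, hij, _ => by
    exfalso
    omega
  | n + 1, v, i, j, hij, h => by
    cases j using Fin.cases with
    | zero => exact absurd hij (Fin.not_lt_zero i)
    | succ j =>
      cases i using Fin.cases with
      | zero => exact step_pairM_eq_zero L hϖ n _ (Fin.tail v) j h
      | succ i =>
        rw [pairM_succ, pairM_steinberg n (Fin.tail v) i j (Fin.succ_lt_succ_iff.1 hij) h, map_zero]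

/-- The combined map `(s, ∂)`. -/
noncomputable def pairMap (n : ℕ) : K L (n + 1) →+ Pair A n :=
  MilK.lift (pairM L hϖ n) fun x ⟨i, j, hij, h⟩ => pairM_steinberg L hϖ n _ i j hij h

theorem pairMap_symbol (n : ℕ) (x : Fin (n + 1) → Lˣ) :
    pairMap L hϖ n (symbol x) = pairM L hϖ n fun i => Additive.ofMul (x i) :=
  lift_symbol _ _ x

theorem pairM_fst : ∀ (n : ℕ) (v : Fin (n + 1) → Additive Lˣ),
    (pairM L hϖ n v).1 = symbol fun i => (res L hϖ (v i)).toMul
  | 0, v => by
    change cons _ (symbol _) = _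
    rw [cons_symbol]
    congr 1
    funext i
    rw [Fin.fin_one_eq_zero i]
    rfl
  | n + 1, v => by
    change cons _ (pairM L hϖ n (Fin.tail v)).1 = _
    rw [pairM_fst n, cons_symbol]
    congr 1
    funext i
    cases i using Fin.cases <;> rfl

theorem pairM_snd_units : ∀ (n : ℕ) (v : Fin (n + 1) → Additive Lˣ), (∀ i, val L hϖ (v i) = 0) →
    (pairM L hϖ n v).2 = 0
  | 0, v, h => by
    change val L hϖ (v 0) • _ = 0
    rw [h, zero_smul]
  | n + 1, v, h => by
    change val L hϖ (v 0) • _ + twist _ _ (pairM L hϖ n (Fin.tail v)).2 = 0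
    rw [h, zero_smul, pairM_snd_units n (Fin.tail v) fun i => h _, map_zero, add_zero]

/-- The tame symbol. -/
noncomputable def tame (n : ℕ) : K L (n + 1) →+ K (IsLocalRing.ResidueField A) n :=
  (AddMonoidHom.snd _ _).comp (pairMap L hϖ n)

theorem isTameSymbol_tame : ∀ n : ℕ, IsTameSymbol A L n (tame L hϖ n) := by
  intro n ϖ' hϖ' u
  obtain ⟨w, hw⟩ := (IsDiscreteValuationRing.associated_of_irreducible A hϖ hϖ')
  have h' : unitFrac A L ϖ' hϖ'.ne_zero = unitFrac A L ϖ hϖ.ne_zero ^ (1 : ℤ) * unitToFrac A L w := by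
    ext
    simp [← hw, unitToFrac]
  simp only [tame, AddMonoidHom.comp_apply, pairMap_symbol, AddMonoidHom.coe_snd]
  rcases n with _ | n
  · rw [pairM_zero]
    simp only [step₀, AddMonoidHom.mk'_apply, Fin.cons_zero]
    rw [h', val_combine, one_smul, symbol_fin_zero]
  · rw [pairM_succ]
    simp only [step, AddMonoidHom.mk'_apply, Fin.cons_zero]
    rw [pairM_snd_units L hϖ n _ fun i => ?_, map_zero, add_zero, h', val_combine, one_smul,
      pairM_fst]
    · congr 1
      funext i
      simp [Fin.tail, res_unit]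
    · simp [Fin.tail, val_unit]

/-- The specialisation map. -/
noncomputable def spec : ∀ n : ℕ, K L n →+ K (IsLocalRing.ResidueField A) n
  | 0 => ((K0 _).symm.toAddMonoidHom).comp (K0 L).toAddMonoidHom
  | n + 1 => (AddMonoidHom.fst _ _).comp (pairMap L hϖ n)

theorem isSpecMap_spec : ∀ n : ℕ, IsSpecMap A L ϖ hϖ n (spec L hϖ n) := by
  intro n e u
  rcases n with _ | n
  · change (K0 _).symm (K0 L (symbol _)) = _
    rw [K0_symbol, AddEquiv.symm_apply_eq, K0_symbol]
  · change (pairMap L hϖ n (symbol _)).1 = _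
    rw [pairMap_symbol, pairM_fst]
    congr 1
    funext i
    rw [res_combine]
    rfl

theorem tame_symbol_two (x y : Lˣ) :
    tame L hϖ 1 (symbol ![x, y]) =
      cons (val L hϖ (Additive.ofMul x) • res L hϖ (Additive.ofMul y) +
        val L hϖ (Additive.ofMul y) • (val L hϖ (Additive.ofMul x) • negOne _ - res L hϖ (Additive.ofMul x)))
        (unit₀ _) := by
  change (pairMap L hϖ 1 (symbol _)).2 = _
  rw [pairMap_symbol]
  change val L hϖ (Additive.ofMul x) • cons (res L hϖ (Additive.ofMul y)) (unit₀ _) +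
    twist _ _ (val L hϖ (Additive.ofMul y) • unit₀ _) = _
  simp only [twist, map_zsmul, map_add cons, map_zsmul cons, AddMonoidHom.add_apply,
    AddMonoidHom.smul_apply]
  rfl

/-! ### Generators and uniqueness -/

omit hϖ

/-- The subgroup generated by the symbols of units. -/
def unitSymbols (A : Type u) [CommRing A] (L : Type v) [Field L] [Algebra A L] [IsFractionRing A L]
    (n : ℕ) : AddSubgroup (K L n) :=
  AddSubgroup.closure {z | ∃ u : Fin n → Aˣ, z = symbol (fun i => unitToFrac A L (u i))}

theorem cons_unit_mem {n : ℕ} (w : Aˣ) {z : K L n} (hz : z ∈ unitSymbols A L n) :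
    cons (Additive.ofMul (unitToFrac A L w)) z ∈ unitSymbols A L (n + 1) := by
  induction hz using AddSubgroup.closure_induction with
  | zero => rw [map_zero]; exact zero_mem _
  | add a b _ _ ha hb => rw [map_add]; exact add_mem ha hb
  | neg a _ ha => rw [map_neg]; exact neg_mem ha
  | mem a ha =>
    obtain ⟨u, rfl⟩ := ha
    refine AddSubgroup.subset_closure ⟨Fin.cons w u, ?_⟩
    rw [cons_symbol]
    congr 1
    funext i
    cases i using Fin.cases <;> simp

include hϖ

theorem exists_decomp : ∀ (n : ℕ) (z : K L (n + 1)), ∃ a ∈ unitSymbols A L n,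
    ∃ b ∈ unitSymbols A L (n + 1),
      z = cons (Additive.ofMul (unitFrac A L ϖ hϖ.ne_zero)) a + b := by
  intro n
  induction n with
  | zero =>
    intro z
    induction z using symbol_induction with
    | h0 => exact ⟨0, zero_mem _, 0, zero_mem _, by simp⟩
    | hadd p q hp hq =>
      obtain ⟨a, ha, b, hb, rfl⟩ := hp
      obtain ⟨a', ha', b', hb', rfl⟩ := hq
      exact ⟨a + a', add_mem ha ha', b + b', add_mem hb hb', by rw [map_add]; abel⟩
    | hneg p hp =>
      obtain ⟨a, ha, b, hb, rfl⟩ := hp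
      exact ⟨-a, neg_mem ha, -b, neg_mem hb, by rw [map_neg]; abel⟩
    | hs v =>
      obtain ⟨e, u, hv⟩ := exists_eq_combine L hϖ (v 0)
      have h0 : (unit₀ L) ∈ unitSymbols A L 0 :=
        AddSubgroup.subset_closure ⟨Fin.elim0, (symbol_fin_zero _).symm⟩
      refine ⟨e • unit₀ L, AddSubgroup.zsmul_mem _ h0 e, _, cons_unit_mem L u h0, ?_⟩
      rw [← Fin.cons_self_tail v, ← toMul_ofMul (v 0), ← cons_symbol, symbol_fin_zero, hv, ofMul_mul,
        ofMul_zpow, map_add cons, map_zsmul cons, AddMonoidHom.add_apply, AddMonoidHom.smul_apply,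
        map_zsmul]
  | succ n ih =>
    intro z
    induction z using symbol_induction with
    | h0 => exact ⟨0, zero_mem _, 0, zero_mem _, by simp⟩
    | hadd p q hp hq =>
      obtain ⟨a, ha, b, hb, rfl⟩ := hp
      obtain ⟨a', ha', b', hb', rfl⟩ := hq
      exact ⟨a + a', add_mem ha ha', b + b', add_mem hb hb', by rw [map_add]; abel⟩
    | hneg p hp =>
      obtain ⟨a, ha, b, hb, rfl⟩ := hp
      exact ⟨-a, neg_mem ha, -b, neg_mem hb, by rw [map_neg]; abel⟩
    | hs v =>
      obtain ⟨e, u, hv⟩ := exists_eq_combine L hϖ (v 0)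
      obtain ⟨a, ha, b, hb, hab⟩ := ih (symbol (Fin.tail v))
      have hm : Additive.ofMul (unitToFrac A L (-1)) = negOne L := by
        change Additive.ofMul _ = Additive.ofMul (-1 : Lˣ)
        congr 1
        ext
        simp [unitToFrac]
      refine ⟨e • (cons (negOne L) a) - cons (Additive.ofMul (unitToFrac A L u)) a + e • b, ?_,
        cons (Additive.ofMul (unitToFrac A L u)) b, cons_unit_mem L u hb, ?_⟩
      · refine add_mem (sub_mem (AddSubgroup.zsmul_mem _ (hm ▸ cons_unit_mem L (-1) ha) e)
          (cons_unit_mem L u ha)) (AddSubgroup.zsmul_mem _ hb e)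
      rw [← Fin.cons_self_tail v, ← toMul_ofMul (v 0), ← cons_symbol, hab, hv, ofMul_mul, ofMul_zpow]
      simp only [map_add cons, map_zsmul cons, AddMonoidHom.add_apply, AddMonoidHom.smul_apply,
        map_add, map_sub, map_zsmul, smul_add]
      rw [cons_self (F := L), cons_comm (Additive.ofMul (unitToFrac A L u))]
      abel

theorem tame_apply_unit {n : ℕ} {d : K L (n + 1) →+ K (IsLocalRing.ResidueField A) n}
    (hd : IsTameSymbol A L n d) {b : K L (n + 1)} (hb : b ∈ unitSymbols A L (n + 1)) : d b = 0 := by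
  induction hb using AddSubgroup.closure_induction with
  | zero => exact map_zero d
  | add a b _ _ ha hb => rw [map_add, ha, hb, add_zero]
  | neg a _ ha => rw [map_neg, ha, neg_zero]
  | mem a ha =>
    obtain ⟨u, rfl⟩ := ha
    have hϖ' : Irreducible (ϖ * (u 0 : A)) := (irreducible_mul_units (u 0)).2 hϖ
    have h1 := hd _ hϖ' (Fin.tail u)
    have h2 := hd _ hϖ (Fin.tail u)
    have h3 : (symbol fun i => unitToFrac A L (u i)) =
        symbol (Fin.cons (unitFrac A L _ hϖ'.ne_zero) fun i => unitToFrac A L (Fin.tail u i)) -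
          symbol (Fin.cons (unitFrac A L ϖ hϖ.ne_zero) fun i => unitToFrac A L (Fin.tail u i)) := by
      rw [eq_sub_iff_add_eq, ← toMul_ofMul (unitFrac A L _ hϖ'.ne_zero),
        ← toMul_ofMul (unitFrac A L ϖ hϖ.ne_zero), ← cons_symbol, ← cons_symbol]
      have : (symbol fun i => unitToFrac A L (u i)) = cons (Additive.ofMul (unitToFrac A L (u 0)))
          (symbol fun i => unitToFrac A L (Fin.tail u i)) := by
        rw [cons_symbol]
        congr 1
        funext i
        cases i using Fin.cases <;> rfl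
      rw [this, ← AddMonoidHom.add_apply, ← map_add cons, ← ofMul_mul]
      congr 3
      ext
      simp [unitToFrac, mul_comm]
    rw [h3, map_sub, h1, h2, sub_self]

theorem tame_unique {n : ℕ} {d d' : K L (n + 1) →+ K (IsLocalRing.ResidueField A) n}
    (hd : IsTameSymbol A L n d) (hd' : IsTameSymbol A L n d') : d = d' := by
  refine AddMonoidHom.ext fun z => ?_
  obtain ⟨a, ha, b, hb, rfl⟩ := exists_decomp L hϖ n z
  rw [map_add, map_add, tame_apply_unit L hϖ hd hb, tame_apply_unit L hϖ hd' hb, add_zero, add_zero]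
  clear hb
  induction ha using AddSubgroup.closure_induction with
  | zero => simp
  | add p q _ _ hp hq => simp only [map_add, hp, hq]
  | neg p _ hp => simp only [map_neg, hp]
  | mem p hp =>
    obtain ⟨u, rfl⟩ := hp
    rw [cons_symbol, toMul_ofMul, hd ϖ hϖ u, hd' ϖ hϖ u]

theorem spec_unique {n : ℕ} {s s' : K L n →+ K (IsLocalRing.ResidueField A) n}
    (hs : IsSpecMap A L ϖ hϖ n s) (hs' : IsSpecMap A L ϖ hϖ n s') : s = s' := by
  refine hom_ext fun x => ?_
  choose e u hx using fun i => exists_eq_combine L hϖ (x i)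
  rw [funext hx]
  exact (hs e u).trans (hs' e u).symm

end DVR


theorem cast_mul_one {n : ℕ} (a : Fˣ) (x : K F n) :
    MilK.cast F (Nat.add_comm 1 n) (MilK.mul F 1 n (symbol ![a]) x) = cons (Additive.ofMul a) x := by
  induction x using symbol_induction with
  | h0 => simp
  | hadd p q hp hq => simp only [map_add, hp, hq]
  | hneg p hp => simp only [map_neg, hp]
  | hs v =>
    rw [mul_symbol_symbol, cast_symbol, cons_symbol, toMul_ofMul]
    congr 1
    funext i
    cases i using Fin.cases with
    | zero =>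
      have : Fin.cast (Nat.add_comm 1 n).symm (0 : Fin (n + 1)) = Fin.castAdd n (0 : Fin 1) := by
        ext; simp
      rw [Function.comp_apply, this, Fin.append_left]
      simp
    | succ i =>
      have : Fin.cast (Nat.add_comm 1 n).symm (Fin.succ i) = Fin.natAdd 1 i := by
        ext; simp [add_comm]
      rw [Function.comp_apply, this, Fin.append_right]
      simp

theorem cons_unit₀ (a : Additive Fˣ) : cons a (unit₀ F) = symbol ![a.toMul] := by
  rw [unit₀, cons_symbol]
  congr 1

section
variable {A : Type u} [CommRing A] [IsDomain A] [IsDiscreteValuationRing A]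
  {L : Type v} [Field L] [Algebra A L] [IsFractionRing A L] {ϖ : A} (hϖ : Irreducible ϖ)

include hϖ

theorem spec_eq_tame_cons (n : ℕ) (x : K L n) :
    spec L hϖ n x = tame L hϖ n (cons (Additive.ofMul (-unitFrac A L ϖ hϖ.ne_zero)) x) := by
  have hneg : (-unitFrac A L ϖ hϖ.ne_zero) = unitFrac A L ϖ hϖ.ne_zero ^ (1 : ℤ) * unitToFrac A L (-1) := by
    ext; simp [unitToFrac]
  have hr : res L hϖ (Additive.ofMul (-unitFrac A L ϖ hϖ.ne_zero)) = negOne (IsLocalRing.ResidueField A) := by
    rw [hneg, res_combine]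
    change Additive.ofMul (unitResidue A (-1)) = Additive.ofMul (-1)
    exact congrArg Additive.ofMul (Units.ext (by simp [unitResidue]))
  have hv : val L hϖ (Additive.ofMul (-unitFrac A L ϖ hϖ.ne_zero)) = 1 := by rw [hneg, val_combine]
  induction x using symbol_induction with
  | h0 => simp
  | hadd p q hp hq => simp only [map_add, hp, hq]
  | hneg p hp => simp only [map_neg, hp]
  | hs v =>
    rw [cons_symbol, toMul_ofMul]
    simp only [tame, AddMonoidHom.comp_apply, pairMap_symbol, AddMonoidHom.coe_snd]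
    rcases n with _ | n
    · rw [pairM_zero]
      simp only [step₀, AddMonoidHom.mk'_apply, Fin.cons_zero]
      rw [hv, one_smul]
      simp only [spec, AddMonoidHom.comp_apply, AddEquiv.coe_toAddMonoidHom, K0_symbol]
      rw [AddEquiv.symm_apply_eq, unit₀, K0_symbol]
    · rw [pairM_succ]
      simp only [step, twist, AddMonoidHom.mk'_apply, Fin.cons_zero]
      rw [hv, hr, one_smul, one_smul, sub_self, map_zero cons, AddMonoidHom.zero_apply, add_zero]
      simp only [spec, AddMonoidHom.comp_apply, pairMap_symbol, AddMonoidHom.coe_fst]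
      rfl

end

end Groth.Agent.MilnorK
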