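import Groth.Agent.MilnorK.Residue

/-!
# Functoriality of the tame symbol
-/

universe u v w

namespace Groth.Agent.MilnorK

open MilK Function

theorem tame_cons_unit {B : Type u} [CommRing B] [IsDomain B] [IsDiscreteValuationRing B]
    {F : Type v} [Field F] [Algebra B F] [IsFractionRing B F] {ϖ : B} (hϖ : Irreducible ϖ) {n : ℕ}
    (w : Bˣ) (ρ : K F (n + 1)) :
    tame F hϖ (n + 1) (cons (Additive.ofMul (unitToFrac B F w)) ρ) =
      -cons (Additive.ofMul (unitResidue B w)) (tame F hϖ n ρ) := by
  induction ρ using symbol_induction with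
  | h0 => simp
  | hadd a b ha hb => simp only [map_add, ha, hb, neg_add]
  | hneg a ha => simp only [map_neg, ha]
  | hs v =>
    rw [cons_symbol, toMul_ofMul]
    simp only [tame, AddMonoidHom.comp_apply, pairMap_symbol, AddMonoidHom.coe_snd, pairM_succ]
    simp only [step, twist, AddMonoidHom.mk'_apply, Fin.cons_zero]
    rw [val_unit, res_unit, zero_smul, zero_smul, zero_add, zero_sub, map_neg cons,
      AddMonoidHom.neg_apply]
    rfl

theorem map_sym_units {A : Type u} [CommRing A] {E : Type v} [Field E] [Algebra A E] [IsFractionRing A E]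
    {B : Type w} [CommRing B] {F : Type v} [Field F] [Algebra B F] [IsFractionRing B F]
    [Algebra A B] [Algebra E F] [Algebra A F] [IsScalarTower A E F] [IsScalarTower A B F] {n : ℕ}
    (u : Fin n → Aˣ) :
    MilK.map (algebraMap E F) n (symbol fun i => unitToFrac A E (u i)) =
      symbol fun i => unitToFrac B F (Units.map (algebraMap A B : A →* B) (u i)) := by
  rw [map_symbol]
  refine congrArg symbol (funext fun i => Units.ext ?_)
  change algebraMap E F (algebraMap A E (u i : A)) = algebraMap B F (algebraMap A B (u i : A))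
  rw [← IsScalarTower.algebraMap_apply, ← IsScalarTower.algebraMap_apply]

theorem tame_map_eq_smul (A B : Type u) [CommRing A] [IsDomain A] [IsDiscreteValuationRing A]
    [CommRing B] [IsDomain B] [IsDiscreteValuationRing B] [Algebra A B] [IsLocalHom (algebraMap A B)]
    (E F : Type v) [Field E] [Field F] [Algebra A E] [IsFractionRing A E] [Algebra B F] [IsFractionRing B F]
    [Algebra E F] [Algebra A F] [IsScalarTower A E F] [IsScalarTower A B F]
    (e : ℕ) (he : Ideal.map (algebraMap A B) (IsLocalRing.maximalIdeal A) = IsLocalRing.maximalIdeal B ^ e)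
    (n : ℕ) (dA : K E (n + 1) →+ K (IsLocalRing.ResidueField A) n) (hdA : IsTameSymbol A E n dA)
    (dB : K F (n + 1) →+ K (IsLocalRing.ResidueField B) n) (hdB : IsTameSymbol B F n dB)
    (x : K E (n + 1)) :
    dB (MilK.map (algebraMap E F) (n + 1) x) =
      e • MilK.map (IsLocalRing.ResidueField.map (algebraMap A B)) n (dA x) := by
  obtain ⟨π, hπ⟩ := IsDiscreteValuationRing.exists_irreducible A
  obtain ⟨ϖ, hϖ⟩ := IsDiscreteValuationRing.exists_irreducible B
  rw [hπ.maximalIdeal_eq, hϖ.maximalIdeal_eq, Ideal.map_span, Set.image_singleton,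
    Ideal.span_singleton_pow, Ideal.span_singleton_eq_span_singleton] at he
  obtain ⟨w, hw⟩ := he.symm
  have hπw : Units.map (algebraMap E F : E →* F) (unitFrac A E π hπ.ne_zero) =
      unitFrac B F ϖ hϖ.ne_zero ^ (e : ℤ) * unitToFrac B F w := Units.ext (by
    rw [zpow_natCast, Units.val_mul, Units.val_pow_eq_pow_val, coe_unitFrac]
    change algebraMap E F (algebraMap A E π) = algebraMap B F ϖ ^ e * algebraMap B F (w : B)
    rw [← IsScalarTower.algebraMap_apply, IsScalarTower.algebraMap_apply A B F, ← hw, map_mul, map_pow])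
  have hunit : ∀ (m : ℕ) (z : K E m), z ∈ unitSymbols A E m →
      MilK.map (algebraMap E F) m z ∈ unitSymbols B F m := by
    intro m z hz
    induction hz using AddSubgroup.closure_induction with
    | zero => rw [map_zero]; exact zero_mem _
    | add a b _ _ ha hb => rw [map_add]; exact add_mem ha hb
    | neg a _ ha => rw [map_neg]; exact neg_mem ha
    | mem a ha =>
      obtain ⟨u, rfl⟩ := ha
      rw [map_sym_units (B := B)]
      exact AddSubgroup.subset_closure ⟨_, rfl⟩
  obtain ⟨a, ha, b, hb, rfl⟩ := exists_decomp E hπ n x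
  rw [map_add, map_add, map_cons, tame_apply_unit F hϖ hdB (hunit _ b hb), add_zero, map_add,
    tame_apply_unit E hπ hdA hb, add_zero, hπw, ofMul_mul, ofMul_zpow, map_add cons, map_zsmul cons,
    AddMonoidHom.add_apply, AddMonoidHom.smul_apply, map_add, map_zsmul,
    tame_apply_unit F hϖ hdB (cons_unit_mem F w (hunit _ a ha)), add_zero, natCast_zsmul]
  congr 1
  induction ha using AddSubgroup.closure_induction with
  | zero => simp
  | add p q _ _ hp hq => simp only [map_add, hp, hq]
  | neg p _ hp => simp only [map_neg, hp]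
  | mem p hp =>
    obtain ⟨u, rfl⟩ := hp
    rw [map_sym_units (B := B), cons_symbol, cons_symbol, toMul_ofMul, toMul_ofMul,
      hdB ϖ hϖ, hdA π hπ u, map_symbol]
    exact congrArg symbol (funext fun i => Units.ext (IsLocalRing.ResidueField.map_residue _ _).symm)

theorem symbol_add_symbol (F : Type u) [Field F] (b c : Fˣ) (h : (b : F) + (c : F) ≠ 0) :
    (symbol ![b, c] : K F 2) + symbol ![Units.mk0 ((b : F) + (c : F)) h, -(b / c)] = 0 := by
  have hs : ∀ p q : Fˣ, (symbol ![p, q] : K F 2) =
      cons (Additive.ofMul p) (cons (Additive.ofMul q) (unit₀ F)) := fun p q => by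
    rw [cons_unit₀, cons_symbol, toMul_ofMul, toMul_ofMul]
    rfl
  let P := Additive.ofMul b
  let Q := Additive.ofMul c
  let S := Additive.ofMul (Units.mk0 ((b : F) + (c : F)) h)
  have hN : Additive.ofMul (-(b / c)) = P - Q + negOne F := by
    change _ = Additive.ofMul (b / c * -1)
    rw [mul_neg, mul_one]
  rw [hs, hs, hN]
  have h0 := cons_cons_eq_zero (a := P - S) (b := Q - S) (show
      ((b / Units.mk0 ((b : F) + (c : F)) h : Fˣ) : F) + ((c / Units.mk0 ((b : F) + (c : F)) h : Fˣ) : F) = 1 by
    rw [Units.val_div_eq_div_val, Units.val_div_eq_div_val, ← add_div, Units.val_mk0, div_self h])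
    (unit₀ F)
  simp only [map_sub cons, AddMonoidHom.sub_apply, map_sub, cons_self S, cons_comm P S] at h0
  simp only [map_sub cons, map_add cons, AddMonoidHom.sub_apply, AddMonoidHom.add_apply, map_sub, map_add]
  have h2 := cons_negOne_add (F := F) (unit₀ F)
  have h3 : cons S (cons (negOne F) (unit₀ F)) + cons S (cons (negOne F) (unit₀ F)) = 0 := by
    rw [← map_add, h2, map_zero]
  calc _ = (cons P (cons Q (unit₀ F)) - cons S (cons Q (unit₀ F)) -
        (-cons S (cons P (unit₀ F)) - cons S (cons (negOne F) (unit₀ F)))) := by abel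
    _ = 0 := h0

end Groth.Agent.MilnorK
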